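import Groth.Agent.EtLC12.AffineLocalAcyclic
import Groth.Agent.EtLC12.EtZarCompare
import Groth.Agent.S3506
import Groth.Agent.VarDim.Fibre
import Groth.Agent.CdFin.TensorCd
import Mathlib.AlgebraicGeometry.Artinian
import Mathlib.AlgebraicGeometry.Morphisms.QuasiFinite

/-!
# Restriction to the Zariski site on curves over separably closed fields
-/

set_option autoImplicit false
set_option linter.style.haveILetI false
set_option backward.isDefEq.respectTransparency.types false

universe u

open CategoryTheory CategoryTheory.Limits AlgebraicGeometry Opposite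

namespace Groth.Agent.CurveZar12

open Groth.Agent.EtFound Groth.Agent.EtLC12 Groth.Agent.EtLC12.EtZarCompare

theorem fdeg_eq_zero {X Y : Scheme.{u}} (g : X ⟶ Y) [LocallyOfFiniteType g] [LocallyQuasiFinite g] (x : X) :
    VarDim.fdeg g x = 0 := by
  obtain ⟨z, hz⟩ : ∃ z : g.fiber (g x), g.fiberι (g x) z = x :=
    ⟨g.asFiber x, g.fiberι_asFiber x⟩
  have h := VarDim.deg_fiber g (g x) z
  rw [hz] at h
  rw [← h]
  exact (VarDim.closedPoint_iff_deg_eq_zero (k := Y.residueField (g x)) (g.fiberToSpecResidueField (g x)) z).1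
    (isClosed_discrete _)

theorem resTrdegLE_of_deg_le {k : Type u} [Field k] {X : Scheme.{u}} (f : X ⟶ Spec (CommRingCat.of k))
    [LocallyOfFiniteType f] (x : X) {a : ℕ} (h : VarDim.deg f x ≤ a) : EtPBC.ResTrdegLE f x a := by
  have hf : f = X.toSpecΓ ≫ Spec.map (CommRingCat.ofHom (VarDim.baseMap f)) := by
    show f = X.toSpecΓ ≫ Spec.map ((Scheme.ΓSpecIso (CommRingCat.of k)).inv ≫ f.appTop)
    rw [Spec.map_comp, ← Scheme.toSpecΓ_naturality_assoc, ← SpecMap_ΓSpecIso_hom, ← Spec.map_comp,
      Iso.inv_hom_id, Spec.map_id, Category.comp_id]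
  refine ⟨VarDim.resHom f x, ?_, ?_⟩
  · conv_rhs => rw [hf]
    show _ = (Spec.map (X.residue x) ≫ X.fromSpecStalk x) ≫ _ ≫ _
    rw [Category.assoc, Scheme.fromSpecStalk_toSpecΓ_assoc, ← Spec.map_comp, ← Spec.map_comp]
    rfl
  · have h1 := VarDim.deg_eq_tdeg f x
    rw [VarDim.tdeg] at h1
    rw [← h1]
    exact_mod_cast h

variable {k : Type u} [Field k] [IsSepClosed k] {C : Scheme.{u}} (f : C ⟶ Spec (CommRingCat.of k))
  [LocallyOfFiniteType f] (hdim : topologicalKrullDim C ≤ 1) (F : EtCoh.Ab C) (hF : EtCoh.IsTorsion F)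

include f hdim hF in
/-- affine schemes étale over a curve have no cohomology of torsion sheaves above degree one -/
theorem subsingleton_H_affine (T : C.Etale) (hT : IsAffine T.left) (q : ℕ) (hq : 2 ≤ q) :
    Subsingleton (EtCoh.H T.left ((EtCoh.pull T.hom).obj F) q) := by
  haveI : AlgebraicGeometry.Etale T.hom := T.prop
  haveI := hT
  let g : T.left ⟶ Spec (CommRingCat.of k) := T.hom ≫ f
  haveI : LocallyOfFiniteType g := MorphismProperty.comp_mem _ _ _ inferInstance inferInstance
  haveI : LocallyQuasiFinite T.hom := inferInstance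
  have htor : EtCoh.IsTorsion ((EtCoh.pull T.hom).obj F) :=
    (BCCrit13.isLTorsion_univ_iff _).1 (isLTorsion_pull T.hom _ ((BCCrit13.isLTorsion_univ_iff F).2 hF))
  refine S3506.result k T.left g 1 0 (CdFin.cohDimLE_sepClosed k) _ htor (fun x _ => ?_) q (by omega)
  refine resTrdegLE_of_deg_le g x ?_
  rw [VarDim.deg_eq_add T.hom f rfl x, fdeg_eq_zero, add_zero]
  have h1 : ((VarDim.deg f (T.hom x) : ℕ∞) : WithBot ℕ∞) ≤ 1 := by
    refine le_trans ?_ hdim
    rw [VarDim.topologicalKrullDim_eq_iSup_deg f]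
    exact le_iSup (fun y : C => ((VarDim.deg f y : ℕ∞) : WithBot ℕ∞)) (T.hom x)
  exact_mod_cast h1

variable [EtZar.ZarCont C]

/-- `R^q` of the restriction vanishes on sheaves without cohomology on affine étale schemes -/
theorem isZero_rightDerived_resZar_of_isLocAcyclic (q : ℕ) : ∀ (G : EtCoh.Ab C), AffineLocalAcyclic.IsLocAcyclic G →
    IsZero (((EtZar.resZar C).rightDerived (q + 1)).obj G) := by
  let L := SESResLib.derivedLES (EtZar.resZar C)
  induction q with
  | zero =>
    intro G hG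
    let Q := Classical.arbitrary (InjectivePresentation G)
    have hE := Q.shortExact_shortComplex
    haveI : Injective Q.shortComplex.X₂ := Q.injective
    haveI he : Epi ((EtZar.resZar C).map Q.shortComplex.g) :=
      (AffineLocalAcyclic.shortExact_resZar _ hE inferInstance hG).epi_g
    haveI : Epi (((EtZar.resZar C).rightDerived 0).map Q.shortComplex.g) :=
      ((MorphismProperty.epimorphisms _).arrow_mk_iso_iff
        (Arrow.isoMk ((EtZar.resZar C).rightDerivedZeroIsoSelf.app _) ((EtZar.resZar C).rightDerivedZeroIsoSelf.app _)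
          ((EtZar.resZar C).rightDerivedZeroIsoSelf.hom.naturality Q.shortComplex.g).symm)).2 he
    haveI : Epi (L.δ _ hE 0 1 rfl) :=
      (L.exact₁ _ hE 0 1 rfl).epi_f (((EtZar.resZar C).isZero_rightDerived_obj_injective_succ 0 _).eq_of_tgt _ _)
    exact IsZero.of_epi_eq_zero (L.δ _ hE 0 1 rfl) (zero_of_epi_comp _ (L.comp_δ _ hE 0 1 rfl))
  | succ q ih =>
    intro G hG
    let Q := Classical.arbitrary (InjectivePresentation G)
    have hE := Q.shortExact_shortComplex
    haveI : Injective Q.shortComplex.X₂ := Q.injective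
    haveI : Epi (L.δ _ hE (q + 1) (q + 2) rfl) :=
      (L.exact₁ _ hE (q + 1) (q + 2) rfl).epi_f
        (((EtZar.resZar C).isZero_rightDerived_obj_injective_succ (q + 1) _).eq_of_tgt _ _)
    exact IsZero.of_epi_eq_zero (L.δ _ hE (q + 1) (q + 2) rfl)
      ((ih _ (AffineLocalAcyclic.isLocAcyclic_X₃ _ hE inferInstance hG)).eq_of_src _ _)

include f hdim hF in
theorem isZero_rightDerived_resZar_curve (i : ℕ) (hi : 1 < i) :
    IsZero (((EtZar.resZar C).rightDerived i).obj F) := by
  obtain ⟨q, rfl⟩ : ∃ q, i = q + 2 := ⟨i - 2, by omega⟩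
  let Q := Classical.arbitrary (InjectivePresentation F)
  have hE := Q.shortExact_shortComplex
  haveI : Injective Q.shortComplex.X₂ := Q.injective
  have hQ : AffineLocalAcyclic.IsLocAcyclic Q.shortComplex.X₃ := fun T hT i hi' => by
    haveI : AlgebraicGeometry.Etale T.hom := T.prop
    haveI := EtFound.jCont T.hom
    have hE' : (Q.shortComplex.map (EtCoh.pull T.hom)).ShortExact :=
      AffineLocalAcyclic.shortExact_pull (T.hom : T.left ⟶ C) hE
    haveI : Injective (Q.shortComplex.map (EtCoh.pull T.hom)).X₂ :=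
      AffineLocalAcyclic.injective_pull T.hom Q.shortComplex.X₂
    haveI : ∀ j, Subsingleton (Sheaf.H (Q.shortComplex.map (EtCoh.pull T.hom)).X₂ (j + 1)) := fun j =>
      subsingleton_of_forall_eq 0 fun x => Abelian.Ext.eq_zero_of_injective x
    obtain ⟨j, rfl⟩ := Nat.exists_eq_add_of_le hi'
    rw [add_comm]
    obtain ⟨e⟩ := Adeq2Lib.ZarCmp.shift _ hE' j
    haveI : Subsingleton (Sheaf.H (Q.shortComplex.map (EtCoh.pull T.hom)).X₁ (j + 1 + 1)) :=
      subsingleton_H_affine f hdim F hF T hT _ (by omega)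
    exact e.toEquiv.subsingleton
  let L := SESResLib.derivedLES (EtZar.resZar C)
  haveI : Epi (L.δ _ hE (q + 1) (q + 2) rfl) :=
    (L.exact₁ _ hE (q + 1) (q + 2) rfl).epi_f
      (((EtZar.resZar C).isZero_rightDerived_obj_injective_succ (q + 1) _).eq_of_tgt _ _)
  exact IsZero.of_epi_eq_zero (L.δ _ hE (q + 1) (q + 2) rfl)
    ((isZero_rightDerived_resZar_of_isLocAcyclic q _ hQ).eq_of_src _ _)

end Groth.Agent.CurveZar12
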